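import Groth.Agent.Etdl.H435.Defs
import Groth.Agent.Ega2.CompleteFinite
import Groth.Agent.CalgB.PowField
import Mathlib.RingTheory.Henselian
import Mathlib.RingTheory.MvPowerSeries.Equiv
import Mathlib.RingTheory.PowerSeries.Inverse
import Mathlib.FieldTheory.IsSepClosed

/-!
# Complete local algebras with residue field `K` (`GoodRing`)
-/

set_option autoImplicit false
universe u
open IsLocalRing

namespace Groth.Agent.Etdl.H435.Good

open Defs

attribute [local instance] GoodRing.isLocalRing GoodRing.isNoetherianRing GoodRing.isAdicComplete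

/-- Good rings are stable under surjective homomorphisms. -/
theorem of_surjective (K : Type u) [Field K] (R R' : Type u) [CommRing R] [CommRing R'] [Algebra K R]
    [Algebra K R'] [GoodRing K R] [Nontrivial R'] (φ : R →+* R') (hφ : Function.Surjective φ)
    (hK : algebraMap K R' = φ.comp (algebraMap K R)) : GoodRing K R' := by
  let _ : Algebra R R' := φ.toAlgebra
  have halg : algebraMap R R' = φ := rfl
  have h2 : IsLocalRing R' := IsLocalRing.of_surjective' φ hφ
  have hloc : IsLocalHom φ := IsLocalHom.of_surjective φ hφ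
  have h3 : IsNoetherianRing R' := isNoetherianRing_of_surjective R R' φ hφ
  have hfin : Module.Finite R R' := Module.Finite.of_surjective (Algebra.linearMap R R') hφ
  have hmax : (maximalIdeal R).map (algebraMap R R') = maximalIdeal R' := by
    refine le_antisymm (((IsLocalRing.local_hom_TFAE φ).out 0 2).1 hloc) ?_
    intro y hy
    obtain ⟨r, rfl⟩ := hφ y
    refine Ideal.mem_map_of_mem _ ?_
    rw [mem_maximalIdeal, mem_nonunits_iff] at hy ⊢
    exact fun h => hy (h.map _)
  have h4 : IsAdicComplete (maximalIdeal R') R' := by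
    have h0 : IsAdicComplete (maximalIdeal R) R' := Ega2.CompleteFinite.isAdicComplete_of_finite
    have h1 : IsAdicComplete ((maximalIdeal R).map (algebraMap R R')) R' :=
      (IsAdicComplete.map_algebraMap_iff _ _).mpr h0
    rwa [hmax] at h1
  refine ⟨h2, h3, h4, fun y => ?_⟩
  obtain ⟨z, rfl⟩ := IsLocalRing.residue_surjective y
  obtain ⟨r, rfl⟩ := hφ z
  obtain ⟨c, hc⟩ := GoodRing.residue_surjective (K := K) (residue R r)
  refine ⟨c, ?_⟩
  have h5 : algebraMap K R c - r ∈ maximalIdeal R := by
    rw [← IsLocalRing.residue_eq_zero_iff, map_sub, ← hc]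
    exact sub_self _
  have h6 : φ (algebraMap K R c - r) ∈ maximalIdeal R' := by
    rw [← hmax]
    exact Ideal.mem_map_of_mem _ h5
  rw [← IsLocalRing.residue_eq_zero_iff, map_sub, map_sub, sub_eq_zero] at h6
  refine Eq.trans ?_ h6
  change residue R' (algebraMap K R' c) = _
  rw [hK]
  rfl

/-- Quotients of good rings. -/
theorem quotient (K : Type u) [Field K] (R : Type u) [CommRing R] [Algebra K R]
    [GoodRing K R] (J : Ideal R) (hJ : J ≠ ⊤) : GoodRing K (R ⧸ J) := by
  have h1 : Nontrivial (R ⧸ J) := Ideal.Quotient.nontrivial_iff.2 hJ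
  exact of_surjective K R (R ⧸ J) (Ideal.Quotient.mk J) Ideal.Quotient.mk_surjective rfl

/-- The residue field of a good ring is separably closed. -/
theorem isSepClosed (K : Type u) [Field K] [IsAlgClosed K] (R : Type u) [CommRing R]
    [Algebra K R] [GoodRing K R] : IsSepClosed (ResidueField R) := by
  have h2 : Function.Bijective (algebraMap K (ResidueField R)) :=
    ⟨RingHom.injective _, GoodRing.residue_surjective⟩
  have : IsAlgClosed (ResidueField R) := IsAlgClosed.of_ringEquiv K _ (RingEquiv.ofBijective _ h2)
  infer_instance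

/-- Good rings are henselian. -/
theorem henselian (K : Type u) [Field K] (R : Type u) [CommRing R]
    [Algebra K R] [GoodRing K R] : HenselianLocalRing R := by
  refine { is_henselian := fun f hf a₀ h₁ h₂ => ?_ }
  refine HenselianRing.is_henselian (I := maximalIdeal R) f hf a₀ h₁ ?_
  exact h₂.map _

/-- Power series rings in finitely many variables. -/
theorem mvPowerSeries (K : Type u) [Field K] (n : ℕ) : GoodRing K (MvPowerSeries (Fin n) K) := by
  have h1 := Groth.Agent.CalgB.PowField.isRegularLocalRing (K := K) (d := n)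
  refine ⟨inferInstance, inferInstance, Groth.Agent.CalgB.PowField.isAdicComplete K n, fun y => ?_⟩
  obtain ⟨f, rfl⟩ := IsLocalRing.residue_surjective y
  refine ⟨MvPowerSeries.constantCoeff f, ?_⟩
  have h5 : algebraMap K (MvPowerSeries (Fin n) K) (MvPowerSeries.constantCoeff f) - f ∈
      maximalIdeal (MvPowerSeries (Fin n) K) := by
    rw [mem_maximalIdeal, mem_nonunits_iff, MvPowerSeries.isUnit_iff_constantCoeff, map_sub,
      MvPowerSeries.algebraMap_apply, MvPowerSeries.constantCoeff_C, Algebra.algebraMap_self, RingHom.id_apply,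
      sub_self, isUnit_iff_ne_zero, not_not]
  rw [← IsLocalRing.residue_eq_zero_iff, map_sub, sub_eq_zero] at h5
  exact h5

/-- `K[[x_0, …, x_{m-1}]][[t]]`. -/
theorem powerSeries (K : Type u) [Field K] (m : ℕ) : GoodRing K (PowerSeries (MvPowerSeries (Fin m) K)) := by
  have h1 := mvPowerSeries K (m + 1)
  refine of_surjective K (MvPowerSeries (Fin (m + 1)) K) _
    (MvPowerSeries.finSuccEquiv K m).toRingEquiv.toRingHom (MvPowerSeries.finSuccEquiv K m).surjective ?_
  exact (MvPowerSeries.finSuccEquiv K m).toAlgHom.comp_algebraMap.symm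

theorem ringKrullDim_powerSeries (K : Type u) [Field K] (m : ℕ) :
    ringKrullDim (PowerSeries (MvPowerSeries (Fin m) K)) = (m + 1 : ℕ) := by
  rw [← ringKrullDim_eq_of_ringEquiv (MvPowerSeries.finSuccEquiv K m).toRingEquiv,
    Groth.Agent.CalgB.PowField.ringKrullDim_eq]

/-- Transport of the good structure of `K[[x_0, …, x_{m-1}]][[t]]` along an isomorphism. -/
theorem of_ringEquiv (K : Type u) [Field K] {R R' : Type u} [CommRing R] [CommRing R'] [Algebra K R]
    [GoodRing K R] (θ : R ≃+* R') :
    letI : Algebra K R' := ((θ : R →+* R').comp (algebraMap K R)).toAlgebra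
    GoodRing K R' := by
  let _ : Algebra K R' := ((θ : R →+* R').comp (algebraMap K R)).toAlgebra
  have : Nontrivial R := inferInstance
  have : Nontrivial R' := θ.symm.surjective.nontrivial
  exact of_surjective K R R' θ θ.surjective rfl

end Groth.Agent.Etdl.H435.Good
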