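import Groth.Prelude.Def_EtCore
import Groth.Prelude.Def_EtBase
import Groth.Prelude.Def_PBC
import Mathlib.RingTheory.MvPowerSeries.Inverse
import Mathlib.RingTheory.AdicCompletion.Basic
import Mathlib.FieldTheory.IsAlgClosed.Basic

/-!
# S3736: definitions for the induction

* `SX n`: `cd (Spec K[[x_0, …, x_n]][1/x_0]) ≤ n + 1` for all algebraically closed `K` of
  characteristic zero;
* `GoodRing K R`: `R` is a complete Noetherian local `K`-algebra with residue field `K`;
* `QuotAway f S`: `S` is obtained from `R` by passing to a quotient and inverting `f`.
-/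

set_option autoImplicit false
universe u
open CategoryTheory CategoryTheory.Limits AlgebraicGeometry Opposite IsLocalRing

namespace Groth.Agent.Etdl.H435.Defs

/-- The statement for `K[[x_0, …, x_n]][1/x_0]`. -/
def SX (n : ℕ) : Prop := ∀ (K : Type u) [Field K] [IsAlgClosed K] [CharZero K],
  EtCoh.CohDimLE (Spec (CommRingCat.of (Localization.Away
    (MvPowerSeries.X 0 : MvPowerSeries (Fin (n + 1)) K)))) (n + 1)

/-- The complete local rings we consider: Noetherian, complete, with residue field `K`. -/
class GoodRing (K : Type u) [Field K] (R : Type u) [CommRing R] [Algebra K R] : Prop where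
  isLocalRing : IsLocalRing R
  isNoetherianRing : IsNoetherianRing R
  isAdicComplete : IsAdicComplete (maximalIdeal R) R
  residue_surjective : Function.Surjective (algebraMap K (ResidueField R))

/-- `S` is obtained from `R` by passing to a quotient and inverting `f`. -/
structure QuotAway {R : Type u} [CommRing R] (f : R) (S : Type u) [CommRing S] [Algebra R S] : Prop where
  isUnit : IsUnit (algebraMap R S f)
  surj : ∀ s : S, ∃ (n : ℕ) (a : R), s * algebraMap R S f ^ n = algebraMap R S a

end Groth.Agent.Etdl.H435.Defs
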