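import Groth.Agent.EtpbcA.CdEtLeray

/-!
# Elementary edge lemma for the Leray spectral sequence

`L ⊣ G` with `L` preserving monomorphisms.  If `Ext^{q+1}(L P, F) = 0` and `Ext^{a+2}(P, R^b G F) = 0` for all
`a + b = q`, then `Hom(P, R^{q+1} G F) = 0`.
-/

set_option autoImplicit false
universe w w' v u v' u'

open CategoryTheory CategoryTheory.Limits CategoryTheory.Abelian Groth.Agent.EtpbcA.CdShift
open Groth.Agent.EtpbcA.CdLeray

namespace Groth.Agent.Etdl.H435.Edge

section abs

variable {A : Type u} [Category.{v} A] [Abelian A]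
  {B : Type u'} [Category.{v'} B] [Abelian B]
  [EnoughInjectives A] [HasExt.{w} A] [HasExt.{w'} B]
  {L : B ⥤ A} {G : A ⥤ B} (adj : L ⊣ G) [G.Additive] [L.PreservesMonomorphisms]

include adj

/-- Edge lemma: `E_2^{0,q+1}` vanishes if the abutment in degree `q + 1` vanishes and all the possible targets of
the differentials `d_r`, `r ≥ 2`, starting from `E_2^{0,q+1}` vanish. -/
theorem ext_zero_subsingleton_of_edge (P : B) (q : ℕ) : ∀ (F : A)
    (_ : Subsingleton (Ext (L.obj P) F (q + 1)))
    (_ : Subsingleton (Ext P (G.obj F) (q + 2)))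
    (_ : ∀ a b, a + (b + 1) = q → Subsingleton (Ext P ((G.rightDerived (b + 1)).obj F) (a + 2))),
    Subsingleton (Ext P ((G.rightDerived (q + 1)).obj F) 0) := by
  have : PreservesFiniteLimits G := by
    have := adj.rightAdjoint_preservesLimits
    infer_instance
  induction q with
  | zero =>
    intro F h0 h1 _
    obtain ⟨S, hS, hI, rfl⟩ := exists_ses F
    have hGI : Injective (G.obj S.X₂) := Injective.injective_of_adjoint adj _
    obtain ⟨e1⟩ := nonempty_shiftIso_one G hS hI
    refine subsingleton_ext_of_iso P e1 0 ?_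
    have hC : Subsingleton (Ext P (Abelian.image (G.map S.g)) 1) :=
      ext_right (shortExact₁ G hS) P 1 (Ext.subsingleton_of_injective _ _ _) h1
    refine subsingleton_of_forall_eq 0 fun x => ?_
    obtain ⟨f, rfl⟩ := Ext.addEquiv₀.symm.surjective x
    obtain ⟨g, hg⟩ := exists_lift_of_ext_one (shortExact₂ G S) P hC f
    obtain ⟨t, ht⟩ := exists_lift_of_ext_one hS (L.obj P) h0 ((adj.homEquiv _ _).symm g)
    have hf : f = 0 := by
      rw [← hg]
      have h2 : g = (adj.homEquiv _ _) t ≫ G.map S.g := by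
        rw [← Adjunction.homEquiv_naturality_right, ht, Equiv.apply_symm_apply]
      change g ≫ cokernel.π (G.map S.g) = 0
      rw [h2, Category.assoc, cokernel.condition, comp_zero]
    rw [hf, map_zero]
  | succ q ih =>
    intro F h0 h1 h
    obtain ⟨S, hS, hI, rfl⟩ := exists_ses F
    have hGI : Injective (G.obj S.X₂) := Injective.injective_of_adjoint adj _
    obtain ⟨e1⟩ := nonempty_shiftIso_one G hS hI
    have hK : Subsingleton (Ext P (cokernel (G.map S.g)) (q + 2)) :=
      subsingleton_ext_of_iso P e1.symm _ (h q 0 rfl)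
    have hC : Subsingleton (Ext P (Abelian.image (G.map S.g)) (q + 2)) :=
      ext_right (shortExact₁ G hS) P (q + 2) (Ext.subsingleton_of_injective _ _ _) h1
    obtain ⟨e⟩ := nonempty_shiftIso G hS hI q
    refine subsingleton_ext_of_iso P e 0 (ih S.X₃ ?_ ?_ fun a b hab => ?_)
    · exact ext_right hS _ (q + 1) (Ext.subsingleton_of_injective _ _ _) h0
    · exact ext_mid (shortExact₂ G S) P (q + 2) hC hK
    · obtain ⟨e'⟩ := nonempty_shiftIso G hS hI b
      exact subsingleton_ext_of_iso P e'.symm _ (h a (b + 1) (by omega))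

end abs

section etale

open AlgebraicGeometry Groth.Agent.EtpbcA.CdEtLeray

variable {X Y : Scheme.{u}} (f : X ⟶ Y)

/-- Edge lemma in étale cohomology: `H^{q+1}(X, F) = 0` and `H^{a+2}(Y, R^b f_* F) = 0` for all `a + b = q` imply
`H^0(Y, R^{q+1} f_* F) = 0`. -/
theorem H_zero_Rpush_subsingleton (F : EtCoh.Ab X) (q : ℕ)
    (h0 : Subsingleton (EtCoh.H X F (q + 1)))
    (h1 : Subsingleton (EtCoh.H Y ((EtCoh.push f).obj F) (q + 2)))
    (h : ∀ a b, a + (b + 1) = q →
      Subsingleton (EtCoh.H Y ((EtCoh.Rpush f (b + 1)).obj F) (a + 2))) :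
    Subsingleton (EtCoh.H Y ((EtCoh.Rpush f (q + 1)).obj F) 0) :=
  ext_zero_subsingleton_of_edge (EtCoh.pullPushAdj f) (ZZ Y) q F
    (subsingleton_ext_of_iso_left (pullZZ f).symm F (q + 1) h0) h1 h

end etale

end Groth.Agent.Etdl.H435.Edge
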