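import Groth.Agent.Etdl.H435.Pts
import Groth.Agent.EtpbcA.ClosedEpi
import Groth.Agent.EtpbcA.SuppClosed
import Groth.Agent.EtpbcA.CdExact
import Groth.Agent.CurvesA.GenSupp
import Groth.Agent.EtpbcA.SuppFilt
import Groth.Agent.Etrest.TorsEt
import Groth.Agent.EtpbcA.ArtinP1

/-!
# Proper schemes over strictly henselian rings: sheaves supported at closed points of the fibre
-/

set_option autoImplicit false
universe u
open CategoryTheory CategoryTheory.Limits AlgebraicGeometry Opposite IsLocalRing TopologicalSpace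

namespace Groth.Agent.Etdl.H435.Fibre

open Groth.Agent.EtpbcA Groth.Agent.EtpbcA.Artin

section dim

/-- In dimension `≤ 1` a proper specialization is a closed point. -/
theorem isClosed_of_specializes {W : Type*} [TopologicalSpace W] [T0Space W]
    (hd : topologicalKrullDim W ≤ 1) {ζ x : W} (h : ζ ⤳ x) (hne : ζ ≠ x) : IsClosed ({x} : Set W) := by
  by_contra hcl
  obtain ⟨x', hx', hne'⟩ : ∃ x', x' ∈ closure ({x} : Set W) ∧ x' ≠ x := by
    by_contra hno
    push Not at hno
    refine hcl ?_
    rw [← closure_eq_iff_isClosed]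
    exact Set.Subset.antisymm (fun y hy => hno y hy) subset_closure
  let c : W → IrreducibleCloseds W := fun z =>
    ⟨closure {z}, isIrreducible_singleton.closure, isClosed_closure⟩
  have hlt : ∀ {a b : W}, a ∈ closure ({b} : Set W) → a ≠ b → c a < c b := by
    intro a b hab hne
    refine lt_of_le_of_ne ?_ ?_
    · exact closure_minimal (Set.singleton_subset_iff.2 hab) isClosed_closure
    · intro heq
      have h1 : closure ({a} : Set W) = closure {b} := congrArg (fun z : IrreducibleCloseds W => (z : Set W)) heq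
      exact hne ((inseparable_iff_closure_eq.2 h1).eq)
  have h1 : c x' < c x := hlt hx' hne'
  have h2 : c x < c ζ := hlt h.mem_closure (Ne.symm hne)
  let l : LTSeries (IrreducibleCloseds W) :=
    { length := 2
      toFun := ![c x', c x, c ζ]
      step := by
        intro i
        fin_cases i
        · exact h1
        · exact h2 }
  have h3 : ((2 : ℕ) : WithBot ℕ∞) ≤ 1 := (Order.LTSeries.length_le_krullDim l).trans hd
  exact absurd h3 (by decide)

end dim

variable {Λ : Type u} [CommRing Λ] [HenselianLocalRing Λ] [IsSepClosed (ResidueField Λ)]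
  {Y : Scheme.{u}} (p : Y ⟶ Spec (CommRingCat.of Λ)) [IsProper p] {Ω : Type u} [Field Ω]
  [IsSepClosed Ω] (ξ : Spec (CommRingCat.of Ω) ⟶ Spec (CommRingCat.of Λ))
  (hξ : Set.range ξ = {closedPoint Λ})

include hξ in
/-- Vanishing of cohomology from the special fibre. -/
theorem H_subsingleton_of_fiber (G : EtCoh.Ab Y) (hG : EtCoh.IsTorsion G) (n : ℕ)
    (h : Subsingleton (EtCoh.H (pullback p ξ) ((EtCoh.pull (pullback.fst p ξ)).obj G) n)) :
    Subsingleton (EtCoh.H Y G n) :=
  (Pts.not_mem_supp_closedPoint_iff Λ p G n).1 (not_mem_supp_of_fiber p ξ _ hξ G hG n h)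

include hξ in
/-- Sheaves supported at closed points of the special fibre. -/
theorem H_subsingleton_of_supp (G : EtCoh.Ab Y) (hG : EtCoh.IsTorsion G)
    (hcl : ∀ x : (pullback p ξ : Scheme.{u}), pullback.fst p ξ x ∈ EtPBC.supp G → IsClosed ({x} : Set (pullback p ξ : Scheme.{u})))
    (n : ℕ) (hn : 0 < n) : Subsingleton (EtCoh.H Y G n) := by
  refine H_subsingleton_of_fiber p ξ hξ G hG n ?_
  refine Groth.Agent.S0171.result _ (pullback.snd p ξ) _ (fun x hx => hcl x ?_) n hn
  rw [supp_pull] at hx
  exact hx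

/-- A sheaf on the spectrum of a separably closed field without global sections vanishes. -/
theorem not_mem_supp_of_H_zero_field (κ : Type u) [Field κ] [IsSepClosed κ]
    (F : EtCoh.Ab (Spec (CommRingCat.of κ))) (h : Subsingleton (EtCoh.H _ F 0))
    (z : Spec (CommRingCat.of κ)) : z ∉ EtPBC.supp F := by
  have h1 : IsSepClosed (ResidueField κ) := by
    have h2 : Function.Bijective (residue κ) := ⟨RingHom.injective _, residue_surjective⟩
    exact Groth.Agent.EtpbcB.StrHensEquiv.isSepClosed_of_ringEquiv (RingEquiv.ofBijective _ h2)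
  have h2 := (Pts.not_mem_supp_closedPoint_iff κ (𝟙 (Spec (CommRingCat.of κ))) F 0).2 h
  have e : (EtCoh.Rpush (𝟙 (Spec (CommRingCat.of κ))) 0).obj F ≅ F :=
    ((EtCoh.push (𝟙 (Spec (CommRingCat.of κ)))).rightDerivedZeroIsoSelf ≪≫
      PullFLC.pushId (Spec (CommRingCat.of κ))).app F
  rw [supp_congr e] at h2
  have hz : z = closedPoint κ := Subsingleton.elim _ _
  rw [hz]
  exact h2

include hξ in
/-- A sheaf supported at closed points of the special fibre and without global sections vanishes
at the points of the special fibre. -/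
theorem not_mem_supp_of_H_zero (G : EtCoh.Ab Y) (hG : EtCoh.IsTorsion G)
    (hcl : ∀ x : (pullback p ξ : Scheme.{u}), pullback.fst p ξ x ∈ EtPBC.supp G → IsClosed ({x} : Set (pullback p ξ : Scheme.{u})))
    (h0 : Subsingleton (EtCoh.H Y G 0)) (κ : Type u) [Field κ] [IsSepClosed κ]
    (i : Spec (CommRingCat.of κ) ⟶ Y) [IsClosedImmersion i] (z : Spec (CommRingCat.of κ)) :
    i z ∉ EtPBC.supp G := by
  let η : G ⟶ (EtCoh.push i).obj ((EtCoh.pull i).obj G) := ClosedRes.η i G
  have hη : Epi η := ClosedEpi.epi_unit i G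
  let S : ShortComplex (EtCoh.Ab Y) := ShortComplex.mk (kernel.ι η) η (kernel.condition _)
  have hS : S.ShortExact :=
    { exact := ShortComplex.exact_of_f_is_kernel _ (kernelIsKernel η)
      mono_f := inferInstanceAs (Mono (kernel.ι η))
      epi_g := hη }
  have hK : EtCoh.IsTorsion (kernel η) := Etrest.TorsEt.isTorsion_of_mono (kernel.ι η) hG
  have h1 : Subsingleton (EtCoh.H Y (kernel η) 1) := by
    refine H_subsingleton_of_supp p ξ hξ _ hK (fun x hx => hcl x ?_) 1 Nat.one_pos
    exact CurvesA.GenSupp.supp_subset_of_mono (kernel.ι η) hx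
  have h2 : Subsingleton (EtCoh.H Y ((EtCoh.push i).obj ((EtCoh.pull i).obj G)) 0) :=
    CdLeray.ext_right hS _ 0 h0 h1
  rw [CdExact.H_push_iff_of_isZero i _ (fun q => SuppClosed.isZero_Rpush i _ q) 0] at h2
  have h3 := not_mem_supp_of_H_zero_field κ _ h2 z
  rw [supp_pull] at h3
  exact h3

end Groth.Agent.Etdl.H435.Fibre
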