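import Groth.Agent.EtpbcA.CharPInd
import Groth.Agent.Sga4B.JFComp

/-!
# Bounding the cohomological dimension by means of the sheaves `j_! ℤ/m`

Descending induction from a finite cohomological dimension, for all torsion sheaves.
-/

set_option autoImplicit false
universe u
open CategoryTheory CategoryTheory.Limits AlgebraicGeometry Opposite

namespace Groth.Agent.Etdl.H435.TorsInd

open Groth.Agent.EtpbcA Groth.Agent.EtpbcA.Present Groth.Agent.EtpbcA.TorsionColim
  Groth.Agent.EtpbcA.CharPInd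

variable {X : Scheme.{u}}

theorem step_cons [CompactSpace X] [QuasiSeparatedSpace X] {m : ℕ} (hm : 0 < m) {q : ℕ}
    (hU : ∀ (U : X.Etale), IsAffine U.left →
      Subsingleton (EtCoh.H X (EtPBC.extZeroConst U (ZMod m)) q))
    (ih : ∀ F : EtCoh.Ab X, EtCoh.IsTorsion F → Subsingleton (EtCoh.H X F (q + 1)))
    (F : EtCoh.Ab X) (hF : EtPBC.IsConstructible F) (hk : EtCoh.KilledBy m F) :
    Subsingleton (EtCoh.H X F q) := by
  obtain ⟨a, ha, -⟩ := Present2.exists_presentation hm hF hk
  have h1 : EtCoh.KilledBy m a.src := killedBy_biproduct _ (fun i => killedBy_extZeroConst _ _)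
  have h2 : EtCoh.KilledBy m (kernel a.map) := killedBy_of_mono (kernel.ι a.map) h1
  let S : ShortComplex (EtCoh.Ab X) := ShortComplex.mk (kernel.ι a.map) a.map (kernel.condition _)
  have hS : S.ShortExact :=
    { exact := ShortComplex.exact_of_f_is_kernel _ (kernelIsKernel a.map)
      mono_f := inferInstanceAs (Mono (kernel.ι a.map))
      epi_g := ha }
  refine CdLeray.ext_right hS _ q ?_ ?_
  · exact subsingleton_biproduct q a.b _ fun i => hU _ (a.f i).aff
  · exact ih _ (Sga4B.JFComp.isTorsion_of_killedBy hm h2)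

theorem step [CompactSpace X] [QuasiSeparatedSpace X] {q : ℕ}
    (hU : ∀ (U : X.Etale), IsAffine U.left → ∀ m : ℕ, 0 < m →
      Subsingleton (EtCoh.H X (EtPBC.extZeroConst U (ZMod m)) q))
    (ih : ∀ F : EtCoh.Ab X, EtCoh.IsTorsion F → Subsingleton (EtCoh.H X F (q + 1)))
    (F : EtCoh.Ab X) (hF : EtCoh.IsTorsion F) : Subsingleton (EtCoh.H X F q) := by
  obtain ⟨J, _, _, D, c, hc, hD, ⟨e⟩⟩ := exists_filtered_consM dir_pos F (by
    intro U s x
    obtain ⟨V, g, ⟨v, hv⟩, hn⟩ := hF U s x
    rw [isOfFinAddOrder_iff_nsmul_eq_zero] at hn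
    obtain ⟨n, hn, hn'⟩ := hn
    exact ⟨V, g, v, hv, n, hn, hn'⟩)
  refine subsingleton_of_iso e q (subsingleton_of_colimit q hc fun j => ?_)
  obtain ⟨h1, m, hm, hk⟩ := hD j
  exact step_cons hm (fun U hA => hU U hA m hm) ih _ h1 hk

/-- The descending induction. -/
theorem cohDimLE_of_extZeroConst (X : Scheme.{u}) [CompactSpace X] [QuasiSeparatedSpace X]
    (n N : ℕ) (hcd : EtCoh.CohDimLE X N)
    (hU : ∀ q, n < q → (∀ q', q < q' → ∀ F : EtCoh.Ab X, EtCoh.IsTorsion F → Subsingleton (EtCoh.H X F q')) →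
      ∀ (U : X.Etale), IsAffine U.left → ∀ m : ℕ, 0 < m →
      Subsingleton (EtCoh.H X (EtPBC.extZeroConst U (ZMod m)) q)) :
    EtCoh.CohDimLE X n := by
  have main : ∀ k q : ℕ, N < q + k → n < q → ∀ F : EtCoh.Ab X, EtCoh.IsTorsion F →
      Subsingleton (EtCoh.H X F q) := by
    intro k
    induction k with
    | zero =>
      intro q hq _ F hF
      exact hcd F hF q hq
    | succ k ih =>
      intro q h1 h2 F hF
      have h3 : ∀ q', q < q' → ∀ F : EtCoh.Ab X, EtCoh.IsTorsion F → Subsingleton (EtCoh.H X F q') :=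
        fun q' hq' F hF => ih q' (by omega) (by omega) F hF
      exact step (hU q h2 h3) (h3 (q + 1) (by omega)) F hF
  intro F hF q hq
  exact main (N + 1) q (by omega) hq F hF

end Groth.Agent.Etdl.H435.TorsInd
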