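import Groth.Prelude.Def_EtBase
import Groth.Prelude.Def_PBC
import Mathlib.AlgebraicGeometry.Morphisms.Etale
import Mathlib.AlgebraicGeometry.Morphisms.Finite
import Mathlib.RingTheory.Etale.Basic
import Mathlib.RingTheory.Localization.Away.Basic
import Mathlib.RingTheory.TensorProduct.Basic
import Mathlib.RingTheory.Localization.Algebra

/-!
# Glue lemmas for the final assembly of S3736
-/

set_option autoImplicit false
universe u v w
open CategoryTheory CategoryTheory.Limits AlgebraicGeometry Opposite TensorProduct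

namespace Groth.Agent.Etdl.H435.Glue

/-- A pullback square restricted to subobjects. -/
theorem isPullback_of_mono {D : Type u} [Category.{v} D] {P C X' X A' A : D} {p₁ : P ⟶ C} {p₂ : P ⟶ X'}
    {f : C ⟶ X} {g : X' ⟶ X} (i : X' ⟶ A') (ι : X ⟶ A) (h : A' ⟶ A) [Mono i] [Mono ι]
    (w' : g ≫ ι = i ≫ h) (H : IsPullback p₁ (p₂ ≫ i) (f ≫ ι) h) : IsPullback p₁ p₂ f g := by
  have w : p₁ ≫ f = p₂ ≫ g := by
    rw [← cancel_mono ι, Category.assoc, Category.assoc, w', H.w, Category.assoc]
  refine ⟨⟨w⟩, ⟨PullbackCone.IsLimit.mk w (fun s => H.lift s.fst (s.snd ≫ i) ?_) (fun s => ?_)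
    (fun s => ?_) (fun s m h₁ h₂ => ?_)⟩⟩
  · rw [← Category.assoc, s.condition, Category.assoc, Category.assoc, w']
  · exact H.lift_fst _ _ _
  · rw [← cancel_mono i, Category.assoc]
    exact H.lift_snd _ _ _
  · refine H.hom_ext ?_ ?_
    · rw [h₁, H.lift_fst]
    · rw [H.lift_snd, ← Category.assoc, h₂]

/-- Affine étale schemes over an affine scheme. -/
theorem exists_iso_mk (R : Type u) [CommRing R] (U : (Spec (CommRingCat.of R)).Etale)
    (hU : IsAffine U.left) :
    ∃ (C : Type u) (_ : CommRing C) (_ : Algebra R C) (_ : Algebra.Etale R C)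
      (_ : Etale (Spec.map (CommRingCat.ofHom (algebraMap R C)))),
      Nonempty (U ≅ Scheme.Etale.mk (Spec.map (CommRingCat.ofHom (algebraMap R C)))) := by
  let φ : CommRingCat.of R ⟶ Γ(U.left, ⊤) := Spec.preimage (U.left.isoSpec.inv ≫ U.hom)
  have hφ : Spec.map φ = U.left.isoSpec.inv ≫ U.hom := Spec.map_preimage _
  have hU' : Etale U.hom := U.prop
  have het : Etale (Spec.map φ) := by
    rw [hφ]; infer_instance
  have het2 : φ.hom.Etale := (HasRingHomProperty.Spec_iff (P := @Etale)).1 het
  refine ⟨Γ(U.left, ⊤), inferInstance, φ.hom.toAlgebra, het2, het, ⟨?_⟩⟩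
  refine MorphismProperty.Over.isoMk U.left.isoSpec ?_
  change U.left.isoSpec.hom ≫ Spec.map φ = U.hom
  rw [hφ, Iso.hom_inv_id_assoc]

/-- Composition of étale algebras, with a localization. -/
theorem etale_restrict {R Rx C : Type u} [CommRing R] [CommRing Rx] [CommRing C] [Algebra R Rx]
    [Algebra Rx C] [Algebra R C] [IsScalarTower R Rx C] (x : R) [IsLocalization.Away x Rx]
    [Algebra.Etale Rx C] : Algebra.Etale R C := by
  have : Algebra.Etale R Rx := Algebra.Etale.of_isLocalizationAway x
  exact Algebra.Etale.comp R Rx C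


theorem isLocalization_away_pow {R S : Type*} [CommRing R] [CommRing S] [Algebra R S] (x : R) (N : ℕ)
    (hN : 1 ≤ N) [IsLocalization.Away x S] : IsLocalization.Away (x ^ N) S := by
  have key : ∀ n : ℕ, (x ^ N) ^ n = x ^ (N * n - n) * x ^ n := by
    intro n
    rw [← pow_mul, ← pow_add]
    congr 1
    have := Nat.le_mul_of_pos_left n (show 0 < N by omega)
    omega
  refine ⟨?_, ?_, ?_⟩
  · rintro ⟨_, n, rfl⟩
    rw [map_pow, map_pow]
    exact ((IsLocalization.Away.algebraMap_isUnit x).pow N).pow n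
  · intro z
    obtain ⟨n, a, ha⟩ := IsLocalization.Away.surj x z
    refine ⟨(x ^ (N * n - n) * a, ⟨(x ^ N) ^ n, n, rfl⟩), ?_⟩
    change z * algebraMap R S ((x ^ N) ^ n) = algebraMap R S (x ^ (N * n - n) * a)
    rw [key, map_mul, map_mul, ← ha, map_pow, map_pow]
    ring
  · intro a b hab
    obtain ⟨⟨_, n, rfl⟩, hc⟩ := IsLocalization.exists_of_eq (M := Submonoid.powers x) hab
    refine ⟨⟨(x ^ N) ^ n, n, rfl⟩, ?_⟩
    change (x ^ N) ^ n * a = (x ^ N) ^ n * b
    rw [key, mul_assoc, mul_assoc]
    exact congrArg _ hc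

section cover

variable {A A' : Type u} [CommRing A] [CommRing A'] [Algebra A A'] (x : A) (x' : A') (N : ℕ) (hN : 1 ≤ N)
  (hx : algebraMap A A' x = x' ^ N) (Ax : Type u) [CommRing Ax] [Algebra A Ax] [IsLocalization.Away x Ax]
  (Ax' : Type u) [CommRing Ax'] [Algebra A' Ax'] [IsLocalization.Away x' Ax']

include hx in
theorem isUnit_cover : IsUnit (((algebraMap A' Ax').comp (algebraMap A A')) x) := by
  rw [RingHom.comp_apply, hx, map_pow]
  exact (IsLocalization.Away.algebraMap_isUnit x').pow N

/-- the map of localizations -/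
noncomputable def ρ : Ax →+* Ax' :=
  IsLocalization.Away.lift x (g := (algebraMap A' Ax').comp (algebraMap A A')) (isUnit_cover x x' N hx Ax')

theorem ρ_comp : (ρ x x' N hx Ax Ax').comp (algebraMap A Ax) = (algebraMap A' Ax').comp (algebraMap A A') :=
  IsLocalization.Away.lift_comp x (isUnit_cover x x' N hx Ax')

include hN in
theorem finite_ρ [Module.Finite A A'] : (ρ x x' N hx Ax Ax').Finite := by
  let : Algebra Ax Ax' := (ρ x x' N hx Ax Ax').toAlgebra
  let : Algebra A Ax' := ((algebraMap A' Ax').comp (algebraMap A A')).toAlgebra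
  have : IsScalarTower A A' Ax' := IsScalarTower.of_algebraMap_eq' rfl
  have : IsScalarTower A Ax Ax' := IsScalarTower.of_algebraMap_eq' (ρ_comp x x' N hx Ax Ax').symm
  have h1 : IsLocalization.Away (x' ^ N) Ax' := isLocalization_away_pow x' N hN
  have h2 : IsLocalization (Algebra.algebraMapSubmonoid A' (Submonoid.powers x)) Ax' := by
    have : Algebra.algebraMapSubmonoid A' (Submonoid.powers x) = Submonoid.powers (x' ^ N) := by
      rw [Algebra.algebraMapSubmonoid, Submonoid.map_powers, hx]
    rw [this]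
    exact h1
  exact Module.Finite.of_isLocalization A A' (Submonoid.powers x)

include hN in
theorem injective_ρ (hinj : Function.Injective (algebraMap A A')) :
    Function.Injective (ρ x x' N hx Ax Ax') := by
  have h1 : IsLocalization.Away (x' ^ N) Ax' := isLocalization_away_pow x' N hN
  rw [injective_iff_map_eq_zero]
  intro z hz
  obtain ⟨n, a, ha⟩ := IsLocalization.Away.surj x z
  have h2 : ρ x x' N hx Ax Ax' (algebraMap A Ax a) = 0 := by
    rw [← ha, map_mul, hz, zero_mul]
  have h3 : algebraMap A' Ax' (algebraMap A A' a) = 0 := by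
    have := congrArg (fun f : A →+* Ax' => f a) (ρ_comp x x' N hx Ax Ax')
    exact this.symm.trans h2
  rw [← map_zero (algebraMap A' Ax')] at h3
  obtain ⟨⟨_, k, rfl⟩, hc⟩ := IsLocalization.exists_of_eq (M := Submonoid.powers (x' ^ N)) h3
  have h4 : algebraMap A A' (x ^ k * a) = 0 := by
    rw [map_mul, map_pow, hx]
    exact hc.trans (mul_zero _)
  have h5 : x ^ k * a = 0 := hinj (h4.trans (map_zero _).symm)
  have h6 : algebraMap A Ax a = 0 := by
    have h7 : algebraMap A Ax (x ^ k) * algebraMap A Ax a = 0 := by rw [← map_mul, h5, map_zero]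
    rw [map_pow] at h7
    rwa [((IsLocalization.Away.algebraMap_isUnit (S := Ax) x).pow k).mul_right_eq_zero] at h7
  rw [h6] at ha
  exact ((IsLocalization.Away.algebraMap_isUnit (S := Ax) x).pow n).mul_left_eq_zero.1 ha

include hN in
theorem isFinite_specMap_ρ [Module.Finite A A'] :
    IsFinite (Spec.map (CommRingCat.ofHom (ρ x x' N hx Ax Ax'))) :=
  (IsFinite.SpecMap_iff _).2 (finite_ρ x x' N hN hx Ax Ax')

include hN in
theorem surjective_specMap_ρ [Module.Finite A A'] (hinj : Function.Injective (algebraMap A A')) :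
    Surjective (Spec.map (CommRingCat.ofHom (ρ x x' N hx Ax Ax'))) := by
  let : Algebra Ax Ax' := (ρ x x' N hx Ax Ax').toAlgebra
  have : Module.Finite Ax Ax' := finite_ρ x x' N hN hx Ax Ax'
  have hint : Algebra.IsIntegral Ax Ax' := inferInstance
  refine ⟨fun p => ?_⟩
  obtain ⟨Q, -, hQ, hQp⟩ := Ideal.exists_ideal_over_prime_of_isIntegral
    (PrimeSpectrum.asIdeal (R := Ax) p) (⊥ : Ideal Ax') (by
      have : Ideal.comap (algebraMap Ax Ax') ⊥ = ⊥ := by
        rw [← RingHom.ker_eq_comap_bot, RingHom.ker_eq_bot_iff_eq_zero]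
        exact fun z hz => injective_ρ x x' N hN hx Ax Ax' hinj (hz.trans (map_zero _).symm)
      rw [this]
      exact bot_le)
  exact ⟨(⟨Q, hQ⟩ : PrimeSpectrum Ax'), PrimeSpectrum.ext hQp⟩

theorem etale_specMap_ρ [Algebra A Ax'] [IsScalarTower A A' Ax'] [Algebra.Etale A Ax'] :
    Etale (Spec.map (CommRingCat.ofHom (ρ x x' N hx Ax Ax'))) := by
  have h1 : IsOpenImmersion (Spec.map (CommRingCat.ofHom (algebraMap A Ax))) :=
    IsOpenImmersion.of_isLocalization x
  have h2 : Spec.map (CommRingCat.ofHom (ρ x x' N hx Ax Ax')) ≫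
      Spec.map (CommRingCat.ofHom (algebraMap A Ax)) = Spec.map (CommRingCat.ofHom (algebraMap A Ax')) := by
    rw [← Spec.map_comp, ← CommRingCat.ofHom_comp, ρ_comp, ← IsScalarTower.algebraMap_eq]
  have h3 : Etale (Spec.map (CommRingCat.ofHom (algebraMap A Ax'))) := by
    rw [HasRingHomProperty.Spec_iff (P := @Etale)]
    change (algebraMap A Ax').Etale
    rw [RingHom.etale_algebraMap]
    infer_instance
  have h4 : Etale (Spec.map (CommRingCat.ofHom (ρ x x' N hx Ax Ax')) ≫
      Spec.map (CommRingCat.ofHom (algebraMap A Ax))) := by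
    rw [h2]; exact h3
  exact Etale.of_comp _ (Spec.map (CommRingCat.ofHom (algebraMap A Ax)))

end cover

/-- Lifting to a basic open subset. -/
theorem exists_isPullback_basicOpen {R L : Type u} [CommRing R] [CommRing L] (φ : R →+* L) (r : R)
    {U : Scheme.{u}} (j : U ⟶ Spec (CommRingCat.of R)) [IsOpenImmersion j]
    (hj : ∀ v : Spec (CommRingCat.of R), v ∈ Set.range j ↔ r ∉ PrimeSpectrum.asIdeal (R := R) v)
    (L' : Type u) [CommRing L'] [Algebra L L'] [IsLocalization.Away (φ r) L'] :
    ∃ g' : Spec (CommRingCat.of L') ⟶ U,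
      IsPullback g' (Spec.map (CommRingCat.ofHom (algebraMap L L'))) j (Spec.map (CommRingCat.ofHom φ)) := by
  let ι : Spec (CommRingCat.of L') ⟶ Spec (CommRingCat.of L) :=
    Spec.map (CommRingCat.ofHom (algebraMap L L'))
  have hι : IsOpenImmersion ι := IsOpenImmersion.of_isLocalization (φ r)
  have hr : ∀ w : Spec (CommRingCat.of L), w ∈ Set.range ι ↔
      φ r ∉ PrimeSpectrum.asIdeal (R := L) w := by
    intro w
    have h1 : Set.range (PrimeSpectrum.comap (algebraMap L L')) = PrimeSpectrum.basicOpen (φ r) :=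
      PrimeSpectrum.localization_away_comap_range L' (φ r)
    have h2 : w ∈ Set.range ι ↔ w ∈ (PrimeSpectrum.basicOpen (φ r) : Set (PrimeSpectrum L)) := by
      rw [← h1]
      rfl
    rw [h2]
    rfl
  have hrange : ∀ w : Spec (CommRingCat.of L), Spec.map (CommRingCat.ofHom φ) w ∈ Set.range j ↔
      w ∈ Set.range ι := by
    intro w
    rw [hj, hr]
    rfl
  have hsub : Set.range (ι ≫ Spec.map (CommRingCat.ofHom φ)) ⊆ Set.range j := by
    rintro _ ⟨z, rfl⟩
    rw [Scheme.Hom.comp_apply, hrange]
    exact ⟨z, rfl⟩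
  refine ⟨IsOpenImmersion.lift j (ι ≫ Spec.map (CommRingCat.ofHom φ)) hsub, ?_⟩
  refine IsOpenImmersion.isPullback _ _ _ _ (IsOpenImmersion.lift_fac _ _ _).symm ?_
  ext w
  exact hrange w

section loc

variable {R : Type u} [CommRing R] (x : R) (S : Type u) [CommRing S] [Algebra R S]
  [IsLocalization.Away x S]

/-- the inclusion `Spec S[t] ⟶ Spec R[t]`, `S = R[1/x]` -/
noncomputable abbrev jx (R S : Type u) [CommRing R] [CommRing S] [Algebra R S] :
    Spec (CommRingCat.of (Polynomial S)) ⟶ Spec (CommRingCat.of (Polynomial R)) :=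
  Spec.map (CommRingCat.ofHom (Polynomial.mapRingHom (algebraMap R S)))

include x in
theorem isLocalization_polynomial :
    let : Algebra (Polynomial R) (Polynomial S) := (Polynomial.mapRingHom (algebraMap R S)).toAlgebra
    IsLocalization.Away (Polynomial.C x) (Polynomial S) := by
  let : Algebra (Polynomial R) (Polynomial S) := (Polynomial.mapRingHom (algebraMap R S)).toAlgebra
  have h := Polynomial.isLocalization (Submonoid.powers x) S
  rw [Submonoid.map_powers] at h
  exact h

include x in
theorem isOpenImmersion_jx : IsOpenImmersion (jx R S) := by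
  let : Algebra (Polynomial R) (Polynomial S) := (Polynomial.mapRingHom (algebraMap R S)).toAlgebra
  have h := isLocalization_polynomial x S
  exact IsOpenImmersion.of_isLocalization (Polynomial.C x : Polynomial R)

theorem mem_range_jx (v : Spec (CommRingCat.of (Polynomial R))) :
    v ∈ Set.range (jx R S) ↔ Polynomial.C x ∉ PrimeSpectrum.asIdeal (R := Polynomial R) v := by
  let : Algebra (Polynomial R) (Polynomial S) := (Polynomial.mapRingHom (algebraMap R S)).toAlgebra
  have h := isLocalization_polynomial x S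
  have h1 : Set.range (PrimeSpectrum.comap (algebraMap (Polynomial R) (Polynomial S))) =
      PrimeSpectrum.basicOpen (Polynomial.C x : Polynomial R) :=
    PrimeSpectrum.localization_away_comap_range (Polynomial S) (Polynomial.C x : Polynomial R)
  have h2 : v ∈ Set.range (jx R S) ↔
      v ∈ (PrimeSpectrum.basicOpen (Polynomial.C x : Polynomial R) : Set (PrimeSpectrum (Polynomial R))) := by
    rw [← h1]
    rfl
  rw [h2]
  rfl

end loc

end Groth.Agent.Etdl.H435.Glue
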