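import Groth.Agent.Etdl.H435.Fibre
import Groth.Agent.Etdl.H435.Edge
import Groth.Agent.EtpbcA.P1Charts
import Groth.Agent.S0203
import Groth.Agent.S0125

/-!
# The argument on the projective line over a strictly henselian local ring
-/

set_option autoImplicit false
universe u
open CategoryTheory CategoryTheory.Limits AlgebraicGeometry Opposite IsLocalRing TopologicalSpace

namespace Groth.Agent.Etdl.H435.P1Arg

open Groth.Agent.EtpbcA Groth.Agent.EtpbcA.Artin P1Charts

section basic

variable {Λ : Type u} [CommRing Λ] [HenselianLocalRing Λ] {K : Type u} [Field K] [IsAlgClosed K]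
  (π : Λ →+* K) (hπ : Function.Surjective π)

/-- the closed point of the base -/
noncomputable abbrev ξ : Spec (CommRingCat.of K) ⟶ Spec (CommRingCat.of Λ) :=
  Spec.map (CommRingCat.ofHom π)

include hπ in
theorem isClosedImmersion_ξ : IsClosedImmersion (ξ π) :=
  IsClosedImmersion.spec_of_surjective _ hπ

include hπ in
theorem ξ_apply (z : Spec (CommRingCat.of K)) : ξ π z = closedPoint Λ := by
  have hloc : IsLocalHom π := IsLocalHom.of_surjective π hπ
  have h1 : z = closedPoint K := Subsingleton.elim _ _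
  rw [h1]
  exact IsLocalRing.comap_closedPoint π

include hπ in
theorem range_ξ : Set.range (ξ π) = {closedPoint Λ} := by
  ext y
  constructor
  · rintro ⟨z, rfl⟩
    exact ξ_apply π hπ z
  · intro hy
    have hy' : y = closedPoint Λ := hy
    rw [hy']
    exact ⟨default, ξ_apply π hπ default⟩

/-- Points of the special fibre different from the generic point are closed. -/
theorem isClosed_fibre (ζ : AA (CommRingCat.of Λ))
    (hζ : ζ.asIdeal = (maximalIdeal Λ).map (Polynomial.C : Λ →+* Polynomial Λ))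
    (x : (pullback (toB (CommRingCat.of Λ)) (ξ π) : Scheme.{u}))
    (hx : pullback.fst (toB (CommRingCat.of Λ)) (ξ π) x ≠ chart 0 (CommRingCat.of Λ) ζ)
    (hπ : Function.Surjective π) :
    IsClosed ({x} : Set (pullback (toB (CommRingCat.of Λ)) (ξ π) : Scheme.{u})) := by
  have hcl := isClosedImmersion_ξ π hπ
  by_cases h0 : pullback.fst (toB (CommRingCat.of Λ)) (ξ π) x ∈ Set.range (chart 0 (CommRingCat.of Λ))
  · obtain ⟨w, hw⟩ := h0
    have hprw : pr (CommRingCat.of Λ) w = closedPoint Λ := by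
      rw [← chart_toB 0 (CommRingCat.of Λ), Scheme.Hom.comp_apply, hw, ← Scheme.Hom.comp_apply, pullback.condition,
        Scheme.Hom.comp_apply]
      exact ξ_apply π hπ _
    have hprζ : pr (CommRingCat.of Λ) ζ = closedPoint Λ := by
      apply PrimeSpectrum.ext
      change (ζ.asIdeal).comap (Polynomial.C : Λ →+* Polynomial Λ) = maximalIdeal Λ
      rw [hζ]
      ext a
      rw [Ideal.mem_comap, Ideal.mem_map_C_iff]
      constructor
      · intro h
        simpa using h 0
      · intro h n
        rw [Polynomial.coeff_C]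
        split_ifs
        · exact h
        · exact zero_mem _
    have hsp : ζ ⤳ w := by
      refine (PrimeSpectrum.le_iff_specializes _ _).1 ?_
      change ζ.asIdeal ≤ w.asIdeal
      rw [hζ, Ideal.map_le_iff_le_comap]
      exact (congrArg PrimeSpectrum.asIdeal hprw).ge
    -- lift the generic point
    obtain ⟨y, hy, -⟩ := Scheme.Pullback.exists_preimage_pullback (f := toB (CommRingCat.of Λ)) (g := ξ π)
      (chart 0 (CommRingCat.of Λ) ζ) default (by
        rw [← Scheme.Hom.comp_apply, chart_toB, hprζ]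
        exact (ξ_apply π hπ _).symm)
    refine Fibre.isClosed_of_specializes (dim_fiber_le (ξ π)) (ζ := y) ?_ ?_
    · have hemb : Topology.IsInducing (pullback.fst (toB (CommRingCat.of Λ)) (ξ π)) :=
        (pullback.fst (toB (CommRingCat.of Λ)) (ξ π)).isClosedEmbedding.isInducing
      rw [← hemb.specializes_iff, hy, ← hw]
      exact hsp.map (chart 0 (CommRingCat.of Λ)).continuous
    · rintro rfl
      exact hx hy
  · exact isClosed_fiber (ξ π) 0 x h0

end basic

section main

variable {Λ : Type u} [CommRing Λ] [HenselianLocalRing Λ] [IsSepClosed (ResidueField Λ)] {K : Type u}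
  [Field K] [IsAlgClosed K] (π : Λ →+* K) (hπ : Function.Surjective π)
  (ζ : AA (CommRingCat.of Λ))
  (hζ : ζ.asIdeal = (maximalIdeal Λ).map (Polynomial.C : Λ →+* Polynomial Λ))

include hπ in
/-- Cohomological dimension of the projective line over a strictly henselian local ring. -/
theorem cohDimLE_PP : EtCoh.CohDimLE (PP (CommRingCat.of Λ)) 2 := by
  intro G hG q hq
  have hprop : IsProper (toB (CommRingCat.of Λ)) := Groth.Agent.Dix.ProjProper.isProper_toBase 1 _
  refine Fibre.H_subsingleton_of_fiber (toB (CommRingCat.of Λ)) (ξ π) (range_ξ π hπ) G hG q ?_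
  exact Groth.Agent.S0203.result K _ (pullback.snd (toB (CommRingCat.of Λ)) (ξ π))
    (dim_fiber_le (ξ π)) _ (Etcore.Torsion.isTorsion_pull _ _ hG) q hq

include hπ hζ in
/-- Vanishing at the origin of the special fibre of `R^q j_* M`, for a quasi-compact open immersion
`j : V ⟶ Spec Λ[t]`, when `V` has cohomological dimension `≤ n` for `M` and `R^b j_* M` vanishes at the
generic point of the special fibre, `b ≥ n`. -/
theorem not_mem_supp {V : Scheme.{u}} (j : V ⟶ AA (CommRingCat.of Λ)) [IsOpenImmersion j]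
    [QuasiCompact j] [QuasiSeparated j] (M : EtCoh.Ab V) (hM : EtCoh.IsTorsion M) (n : ℕ)
    (hn : 1 ≤ n) (hV : ∀ q, n < q → Subsingleton (EtCoh.H V M q))
    (hgen : ∀ b, n ≤ b → ζ ∉ EtPBC.supp ((EtCoh.Rpush j b).obj M))
    (q : ℕ) (hq : n < q) (i : Spec (CommRingCat.of K) ⟶ AA (CommRingCat.of Λ))
    (hi : i ≫ pr (CommRingCat.of Λ) = ξ π) (z : Spec (CommRingCat.of K)) :
    i z ∉ EtPBC.supp ((EtCoh.Rpush j q).obj M) := by
  have hprop : IsProper (toB (CommRingCat.of Λ)) := Groth.Agent.Dix.ProjProper.isProper_toBase 1 (Spec (CommRingCat.of Λ))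
  have hqc : QuasiCompact (chart 0 (CommRingCat.of Λ)) := quasiCompact_chart 0 (CommRingCat.of Λ)
  have hcl := isClosedImmersion_ξ π hπ
  let α : V ⟶ PP (CommRingCat.of Λ) := j ≫ chart 0 (CommRingCat.of Λ)
  have hαt : ∀ b, EtCoh.IsTorsion ((EtCoh.Rpush α b).obj M) := fun b =>
    Groth.Agent.S0125.result α M hM b
  have hpb : IsPullback (𝟙 V) j α (chart 0 (CommRingCat.of Λ)) :=
    IsPullback.of_horiz_isIso_mono ⟨by rw [Category.id_comp]⟩
  -- comparison of supports
  have hcmp : ∀ (b : ℕ) (w : AA (CommRingCat.of Λ)), chart 0 (CommRingCat.of Λ) w ∈ EtPBC.supp ((EtCoh.Rpush α b).obj M) ↔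
      w ∈ EtPBC.supp ((EtCoh.Rpush j b).obj M) := by
    intro b w
    rw [mem_supp_Rpush_iff_of_isPullback (chart 0 (CommRingCat.of Λ)) α (𝟙 V) j hpb M b w]
    rw [supp_congr ((EtCoh.Rpush j b).mapIso ((PullFLC.pullId V).app M))]
    rfl
  -- the points of the support in the special fibre are closed
  have hclosed : ∀ b, n ≤ b → ∀ x : (pullback (toB (CommRingCat.of Λ)) (ξ π) : Scheme.{u}),
      pullback.fst (toB (CommRingCat.of Λ)) (ξ π) x ∈ EtPBC.supp ((EtCoh.Rpush α b).obj M) →
      IsClosed ({x} : Set (pullback (toB (CommRingCat.of Λ)) (ξ π) : Scheme.{u})) := by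
    intro b hb x hx
    refine isClosed_fibre π ζ hζ x (fun heq => ?_) hπ
    rw [heq, hcmp] at hx
    exact hgen b hb hx
  have hcd : EtCoh.CohDimLE (PP (CommRingCat.of Λ)) 2 := cohDimLE_PP π hπ
  obtain ⟨q', rfl⟩ : ∃ q', q = q' + 1 := ⟨q - 1, by omega⟩
  -- no global sections
  have h0 : Subsingleton (EtCoh.H (PP (CommRingCat.of Λ)) ((EtCoh.Rpush α (q' + 1)).obj M) 0) := by
    refine Edge.H_zero_Rpush_subsingleton α M q' (hV _ hq) ?_ ?_
    · exact hcd _ (RpushTors.isTorsion_push α M hM) _ (by omega)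
    · intro a b hab
      rcases Nat.eq_zero_or_pos a with rfl | ha
      · exact Fibre.H_subsingleton_of_supp (toB (CommRingCat.of Λ)) (ξ π) (range_ξ π hπ) _ (hαt _)
          (hclosed (b + 1) (by omega)) _ (by omega)
      · exact hcd _ (hαt _) _ (by omega)
  have hi' : IsClosedImmersion (i ≫ chart 0 (CommRingCat.of Λ)) := by
    have h1 : (i ≫ chart 0 (CommRingCat.of Λ)) ≫ toB (CommRingCat.of Λ) = ξ π := by
      rw [Category.assoc, chart_toB, hi]
    have h2 : IsClosedImmersion ((i ≫ chart 0 (CommRingCat.of Λ)) ≫ toB (CommRingCat.of Λ)) := by rw [h1]; exact hcl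
    exact IsClosedImmersion.of_comp (i ≫ chart 0 (CommRingCat.of Λ)) (toB (CommRingCat.of Λ))
  have h1 := Fibre.not_mem_supp_of_H_zero (toB (CommRingCat.of Λ)) (ξ π) (range_ξ π hπ) _ (hαt (q' + 1))
    (hclosed (q' + 1) (by omega)) h0 K (i ≫ chart 0 (CommRingCat.of Λ)) z
  rw [Scheme.Hom.comp_apply, hcmp] at h1
  exact h1

end main

end Groth.Agent.Etdl.H435.P1Arg
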