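import Groth.Agent.EtpbcA.ArtinTransfer
import Groth.Agent.EtpbcA.ArtinP1
import Groth.Agent.Etdl.H428.RegBC
import Groth.Agent.Etdl.H438.PowAsm
import Groth.Agent.Etdl.H438.PowStrict
import Groth.Agent.Etdl.H435.Glue

/-!
# Stalks of higher direct images: strictly henselian base, regular base change
-/

set_option autoImplicit false
universe u
open CategoryTheory CategoryTheory.Limits AlgebraicGeometry Opposite IsLocalRing

namespace Groth.Agent.Etdl.H435.Pts

open Groth.Agent.EtpbcB Groth.Agent.EtpbcA.Artin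

/-- Over a strictly henselian local ring the stalk of `R^n f_* F` at the closed point vanishes iff
`H^n(X, F)` does. -/
theorem not_mem_supp_closedPoint_iff (R : Type u) [CommRing R] [HenselianLocalRing R]
    [IsSepClosed (ResidueField R)] {X : Scheme.{u}} (f : X ⟶ Spec (CommRingCat.of R)) [QuasiCompact f]
    [QuasiSeparated f] (F : EtCoh.Ab X) (n : ℕ) :
    closedPoint R ∉ EtPBC.supp ((EtCoh.Rpush f n).obj F) ↔ Subsingleton (EtCoh.H X F n) := by
  obtain ⟨_, _, _, h1⟩ := StrictHensTransport.exists_specOf_closedPoint R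
  refine (not_mem_supp_Rpush_iff f F n (closedPoint R) R).trans ?_
  rw [h1]
  exact PBCVan.van_id _ _ _

/-- Regular base change for supports of higher direct images (all positive integers invertible). -/
theorem not_mem_supp_iff_of_regular {R L : Type u} [CommRing R] [CommRing L] [IsNoetherianRing R]
    [IsNoetherianRing L] [Algebra R L] (h : CAlg.IsRegularHom R L)
    (hR : ∀ n : ℕ, 0 < n → IsUnit (n : R)) {X X' : Scheme.{u}}
    (f : X ⟶ Spec (CommRingCat.of R)) [QuasiCompact f] [QuasiSeparated f]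
    (f' : X' ⟶ Spec (CommRingCat.of L)) (g' : X' ⟶ X)
    (hsq : IsPullback g' f' f (Spec.map (CommRingCat.ofHom (algebraMap R L)))) (F : EtCoh.Ab X)
    (hF : EtCoh.IsTorsion F) (q : ℕ) (z : Spec (CommRingCat.of L)) :
    Spec.map (CommRingCat.ofHom (algebraMap R L)) z ∉ EtPBC.supp ((EtCoh.Rpush f q).obj F) ↔
      z ∉ EtPBC.supp ((EtCoh.Rpush f' q).obj ((EtCoh.pull g').obj F)) := by
  obtain ⟨⟨e⟩, -⟩ := H428.RegBC.baseChange_of_isRegularHom h f f' g' hsq F
    (H438.PowAsm.isTorsionInvertibleOn_of_isTorsion R hR F hF) q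
  rw [← supp_congr e, supp_pull]
  rfl

/-- The stalk of `R^q f_* F` at the image of the closed point of a regular strictly henselian algebra. -/
theorem not_mem_supp_iff_of_regular_henselian {R L : Type u} [CommRing R] [CommRing L]
    [IsNoetherianRing R] [IsNoetherianRing L] [Algebra R L] (h : CAlg.IsRegularHom R L)
    (hR : ∀ n : ℕ, 0 < n → IsUnit (n : R)) [HenselianLocalRing L] [IsSepClosed (ResidueField L)]
    {X X' : Scheme.{u}} (f : X ⟶ Spec (CommRingCat.of R)) [QuasiCompact f] [QuasiSeparated f]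
    (f' : X' ⟶ Spec (CommRingCat.of L)) (g' : X' ⟶ X)
    (hsq : IsPullback g' f' f (Spec.map (CommRingCat.ofHom (algebraMap R L)))) (F : EtCoh.Ab X)
    (hF : EtCoh.IsTorsion F) (q : ℕ) :
    Spec.map (CommRingCat.ofHom (algebraMap R L)) (closedPoint L) ∉ EtPBC.supp ((EtCoh.Rpush f q).obj F) ↔
      Subsingleton (EtCoh.H X' ((EtCoh.pull g').obj F) q) := by
  have hq1 : QuasiCompact f' := MorphismProperty.of_isPullback hsq inferInstance
  have hq2 : QuasiSeparated f' := MorphismProperty.of_isPullback hsq inferInstance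
  rw [not_mem_supp_iff_of_regular h hR f f' g' hsq F hF q (closedPoint L)]
  exact not_mem_supp_closedPoint_iff L f' _ q

/-- Vanishing of the stalk from a bound on the cohomological dimension after base change. -/
theorem not_mem_supp_of_cohDimLE {R L : Type u} [CommRing R] [CommRing L]
    [IsNoetherianRing R] [IsNoetherianRing L] [Algebra R L] (h : CAlg.IsRegularHom R L)
    (hR : ∀ n : ℕ, 0 < n → IsUnit (n : R)) [HenselianLocalRing L] [IsSepClosed (ResidueField L)]
    {X X' : Scheme.{u}} (f : X ⟶ Spec (CommRingCat.of R)) [QuasiCompact f] [QuasiSeparated f]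
    (f' : X' ⟶ Spec (CommRingCat.of L)) (g' : X' ⟶ X)
    (hsq : IsPullback g' f' f (Spec.map (CommRingCat.ofHom (algebraMap R L)))) (F : EtCoh.Ab X)
    (hF : EtCoh.IsTorsion F) (d : ℕ) (hd : EtCoh.CohDimLE X' d) (q : ℕ) (hq : d < q)
    (y : Spec (CommRingCat.of R))
    (hy : Spec.map (CommRingCat.ofHom (algebraMap R L)) (closedPoint L) = y) :
    y ∉ EtPBC.supp ((EtCoh.Rpush f q).obj F) := by
  subst hy
  rw [not_mem_supp_iff_of_regular_henselian h hR f f' g' hsq F hF q]
  exact hd _ (Groth.Agent.Etcore.Torsion.isTorsion_pull _ F hF) q hq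


/-- Stalks of `R^q j_* F` for the inclusion `j` of a basic open subset of `Spec R`, at a point of
`Spec R` dominated by the closed point of a regular strictly henselian `R`-algebra `L`. -/
theorem not_mem_supp_basicOpen {R L : Type u} [CommRing R] [CommRing L] [IsNoetherianRing R]
    [IsNoetherianRing L] (φ : R →+* L) (hφ : @CAlg.IsRegularHom R _ L _ φ.toAlgebra)
    (hR : ∀ n : ℕ, 0 < n → IsUnit (n : R)) [HenselianLocalRing L] [IsSepClosed (ResidueField L)]
    (r : R) {U : Scheme.{u}} (j : U ⟶ Spec (CommRingCat.of R)) [IsOpenImmersion j] [QuasiCompact j]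
    (hj : ∀ v : Spec (CommRingCat.of R), v ∈ Set.range j ↔ r ∉ PrimeSpectrum.asIdeal (R := R) v)
    (L' : Type u) [CommRing L'] [Algebra L L'] [IsLocalization.Away (φ r) L'] (d : ℕ)
    (hd : EtCoh.CohDimLE (Spec (CommRingCat.of L')) d) (F : EtCoh.Ab U) (hF : EtCoh.IsTorsion F)
    (q : ℕ) (hq : d < q) (y : Spec (CommRingCat.of R))
    (hy : PrimeSpectrum.asIdeal (R := R) y = (maximalIdeal L).comap φ) :
    y ∉ EtPBC.supp ((EtCoh.Rpush j q).obj F) := by
  obtain ⟨g', hg'⟩ := Glue.exists_isPullback_basicOpen φ r j hj L'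
  let _ : Algebra R L := φ.toAlgebra
  refine not_mem_supp_of_cohDimLE (L := L) hφ hR j _ g' hg' F hF d hd q hq y ?_
  exact (PrimeSpectrum.ext hy).symm

end Groth.Agent.Etdl.H435.Pts
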